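import Cfsg.Agent.Lib.Sporadic.Icosian.Group
import Cfsg.Agent.Lib.Schur.Basic

/-!
The icosian reflection group is a stem extension of the Hall-Janko group: a product of twelve reflections
is minus one, and all reflections are conjugate.
-/

set_option autoImplicit false
set_option maxRecDepth 10000

namespace CfsgLib.Schur.Sporadic.JTwo

open Quaternion CfsgLib.Sporadic.Icosian CfsgLib.SmallGroups Cfsg.Spor Subgroup

/-- Twelve roots whose reflections multiply to minus one. -/
def signWord : List (Fin 6) := [1, 5, 2, 3, 0, 2, 4, 1, 2, 3, 0, 2]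

/-- A vector followed through reflections. -/
def track : List (Fin 6) → Option V3
  | [] => some (repAt 0)
  | j :: w => (track w).bind fun v => if reflExact (repAt j) v then some (reflV (repAt j) v) else none

theorem track_ok : track signWord = some ⟨(repAt 0).x.neg, (repAt 0).y.neg, (repAt 0).z.neg⟩ := by decide +kernel

/-- The composite of the packed involutions of a word. -/
def wordN : List (Fin 6) → ℕ
  | [] => PermChain.pack (List.range 100)
  | j :: w => PermChain.comp 100 (involN j).1 (wordN w)

theorem word_ok : PermChain.isId 100 (wordN signWord) = true := by decide +kernel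

theorem pack_id : PermChain.isId 100 (PermChain.pack (List.range 100)) = true := by decide +kernel

/-- A root reflection in the group. -/
noncomputable def rt (j : Fin 6) : twoJ2 := ⟨refl (root j), refl_mem_twoJ2 _⟩

/-- The element of a word. -/
noncomputable def el (w : List (Fin 6)) : twoJ2 := (w.map rt).prod

theorem toJ_el (w : List (Fin 6)) : PermChain.Rep (wordN w) ((toJ (el w) : J) : Equiv.Perm (Fin 100)) := by
  induction w with
  | nil =>
    intro i
    simp only [el, List.map_nil, List.prod_nil, map_one, OneMemClass.coe_one, Equiv.Perm.one_apply]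
    exact beq_iff_eq.mp ((List.all_eq_true.mp pack_id) i (List.mem_range.mpr i.isLt))
  | cons j w ih =>
    have e : el (j :: w) = rt j * el w := rfl
    rw [e, map_mul, Subgroup.coe_mul, rt, toJ_refl]
    exact PermChain.rep_comp (PermChain.rep_fst (invol_okAt (root j))) ih

theorem el_track : ∀ (w : List (Fin 6)) (v : V3), track w = some v →
    ((((el w : twoJ2) : Equiv.Perm icoLeech) (lineV 0) : icoLeech) : HV) = v.toV
  | [], v, h => by
    obtain rfl := Option.some.inj h
    rfl
  | j :: w, v, h => by
    simp only [track, Option.bind_eq_some_iff] at h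
    obtain ⟨u, hu, h⟩ := h
    split at h
    · rename_i he
      obtain rfl := Option.some.inj h
      have e : el (j :: w) = rt j * el w := rfl
      rw [e, Subgroup.coe_mul, Equiv.Perm.mul_apply]
      show ((refl (root j) _ : icoLeech) : HV) = _
      rw [refl_apply, el_track w u hu, ← refl_spec he]
      rfl
    · simp at h

theorem el_signWord : el signWord = negOne := by
  refine (ker_cases (Subtype.ext (PermChain.perm_one word_ok (toJ_el signWord)))).resolve_left fun e => ?_
  have h := el_track _ _ track_ok
  rw [e] at h
  have h0 : (repAt 0).toV = -(repAt 0).toV := by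
    refine h.trans (funext fun t => ?_)
    fin_cases t <;> simp [V3.toV, Q8.toH_neg]
  refine negOne_ne ?_
  refine (ker_cases toJ_negOne).resolve_right fun _ => ?_
  have hz : (repAt 0).toV = 0 := by
    funext t
    have h1 := congrFun h0 t
    simp only [Pi.neg_apply] at h1
    have c1 := congrArg (fun q : ℍ[ℝ] => q.re) h1; have c2 := congrArg (fun q : ℍ[ℝ] => q.imI) h1
    have c3 := congrArg (fun q : ℍ[ℝ] => q.imJ) h1; have c4 := congrArg (fun q : ℍ[ℝ] => q.imK) h1
    simp at c1 c2 c3 c4
    simp only [Pi.zero_apply]
    ext <;> simp <;> linarith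
  have h4 := line_norm 0
  rw [show (repAt ((0 : Ix) : ℕ)).toV = (0 : HV) from hz, show qip (0 : HV) 0 = 0 by simp [qip], four_eq] at h4
  have h5 := congrArg (fun q : ℍ[ℝ] => q.re) h4
  simp at h5

theorem negOne_mem_commutator : negOne ∈ commutator twoJ2 := by
  rw [← el_signWord, ← Abelianization.ker_of twoJ2, MonoidHom.mem_ker]
  have hconj : ∀ j : Fin 6, Abelianization.of (rt j) = Abelianization.of (rt 0) := fun j => by
    obtain ⟨g, hg, e⟩ := exists_conj (root j) (root 0)
    have e' : (⟨g, hg⟩ : twoJ2) * rt j * ⟨g, hg⟩⁻¹ = rt 0 := Subtype.ext e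
    rw [← e', map_mul, map_mul, map_inv, mul_comm (Abelianization.of _) (Abelianization.of (rt j)),
      mul_inv_cancel_right]
  have hsq : Abelianization.of (rt 0) * Abelianization.of (rt 0) = 1 := by
    rw [← map_mul, show rt 0 * rt 0 = 1 from Subtype.ext (Equiv.ext fun x => Subtype.ext (by
      show ((refl (root 0) (refl (root 0) x) : icoLeech) : HV) = x
      rw [refl_apply, refl_apply, qrefl_qrefl (line_norm (root 0))])), map_one]
  simp only [el, signWord, List.map_cons, List.map_nil, List.prod_cons, List.prod_nil, map_mul, hconj, mul_one]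
  simp only [← mul_assoc, hsq, one_mul]

theorem ker_mulEquiv : Nat.card toJ.ker = 2 := by rw [ker_eq_center, card_center]

theorem isStem : Cfsg.IsStemExtension toJ := by
  refine ⟨toJ_surjective, ker_eq_center.le, fun g hg => ?_⟩
  rcases ker_cases hg with rfl | rfl
  · exact one_mem _
  · exact negOne_mem_commutator

/-- With an upper bound, the multiplier has order two. -/
theorem hasMultiplier_of_bound
    (h : ∀ (Γ : Type) [Group Γ] [Finite Γ] (σ : Γ →* J), Cfsg.IsStemExtension σ → Nat.card σ.ker ≤ 2) :
    Cfsg.HasCyclicSchurMultiplier J2 2 := by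
  haveI : Fact (Nat.Prime 2) := ⟨Nat.prime_two⟩
  refine Basic.hasSchurMultiplier_of_mulEquiv equivJ.symm (Basic.hasSchurMultiplier_of_le toJ isStem
    (mulEquivOfPrimeCardEq (p := 2) ker_mulEquiv (by simp [Nat.card_eq_fintype_card]))
    fun Γ _ _ σ hσ => (h Γ σ hσ).trans (le_of_eq (by simp [Nat.card_eq_fintype_card])))

end CfsgLib.Schur.Sporadic.JTwo
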