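import Cfsg.Agent.Lib.Schur.JTwo.Check
import Cfsg.Agent.Lib.Schur.JTwo.Cover
import Cfsg.Agent.Lib.Schur.TailsCombine
import Cfsg.Agent.Lib.Sporadic.OutCert.JTwo.Main

/-!
The multiplier of the Hall-Janko group has order two.
-/

set_option autoImplicit false
set_option maxRecDepth 100000

namespace CfsgLib.Schur.Sporadic.JTwo

open CfsgLib.SmallGroups CfsgLib.Sporadic.Icosian CfsgLib.Sporadic.OutCert

theorem pairs_mem {L : List (ℕ × ℕ)} (h : pairsOK L = true) (i : ℕ) :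
    ∃ x : J, Rep 7 100 ((L.map Prod.fst).getD i (oneK 7 100)) (J.subtype x) := by
  by_cases hi : i < L.length
  · have he := List.all_eq_true.1 h L[i] (List.getElem_mem hi)
    simp only [Bool.and_eq_true] at he
    refine ⟨⟨_, JTwo.mem_J_of_sift he.1 he.2⟩, ?_⟩
    rw [List.getD_eq_getElem _ _ (by simpa using hi), List.getElem_map]
    exact PermChain.rep_fst he.1
  · refine ⟨1, ?_⟩
    rw [List.getD_eq_default _ _ (by simpa using hi)]
    exact rep_one (by norm_num)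

theorem bound_at {D : Tails.Cert} {kp gp : List (ℕ × ℕ)} {pts : List ℕ} {ws wi : List (List ℕ)}
    (h : allOK D kp gp pts ws wi = true) {p : ℕ} [Fact p.Prime] (hDp : D.p = p) (hm : ¬ p ∣ D.m)
    (hlen : ws.length = p ^ D.r) (hilen : wi.length = p ^ (D.r - D.a)) (hQ : ¬ p ^ (D.r + 1) ∣ 604800)
    (Γ : Type) [Group Γ] [Finite Γ] (σ : Γ →* J) (hσ : Cfsg.IsStemExtension σ) :
    (Nat.card σ.ker).factorization p ≤ D.b.factorization p := by
  simp only [allOK, Bool.and_eq_true] at h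
  obtain ⟨⟨hk, hg⟩, ⟨he, hc, hs⟩, ⟨hr, hf⟩, hw, hwi⟩ := h
  choose y hy using pairs_mem hk
  choose g hgr using pairs_mem hg
  have hinj : Function.Injective J.subtype := Subtype.coe_injective
  have hN : (100 : ℕ) ≤ 2 ^ 7 := by norm_num
  refine Tails.factorization_card_ker_le D he hc hs hDp hm y (Tails.rel_of_check J.subtype hinj hN hy hr) g
    (Tails.fus_of_check J.subtype hinj hN hy hgr hf) ?_ ?_ ?_ Γ σ hσ
  · rw [← hlen]; exact Tails.card_tailGen_ge J.subtype hy hw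
  · rw [← hilen]; exact Tails.card_tailGen_ge J.subtype hy hwi
  · rwa [card_J]

theorem card_ker_le (Γ : Type) [Group Γ] [Finite Γ] (σ : Γ →* J) (hσ : Cfsg.IsStemExtension σ) :
    Nat.card σ.ker ≤ 2 := by
  refine Tails.card_ker_le σ hσ two_ne_zero fun p hp hd => ?_
  rw [card_J] at hd
  have hp' : p = 2 ∨ p = 3 ∨ p = 5 ∨ p = 7 := by
    have h1 : p ∣ 2 ^ 7 * 3 ^ 3 * 5 ^ 2 * 7 := hd
    have q : ∀ r : ℕ, r.Prime → p ∣ r → p = r := fun r hr h => (Nat.prime_dvd_prime_iff_eq hp hr).1 h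
    simp only [Nat.Prime.dvd_mul hp] at h1
    rcases h1 with ((h1 | h1) | h1) | h1
    · exact Or.inl (q 2 Nat.prime_two (hp.dvd_of_dvd_pow h1))
    · exact Or.inr (Or.inl (q 3 Nat.prime_three (hp.dvd_of_dvd_pow h1)))
    · exact Or.inr (Or.inr (Or.inl (q 5 Nat.prime_five (hp.dvd_of_dvd_pow h1))))
    · exact Or.inr (Or.inr (Or.inr (q 7 (by norm_num) h1)))
  haveI := Fact.mk hp
  rcases hp' with rfl | rfl | rfl | rfl
  · obtain ⟨h, e, hm, hb, hl, hi, hr⟩ := ok2
    exact (bound_at h e hm hl hi (by rw [hr]; norm_num) Γ σ hσ).trans (le_of_eq (by rw [hb]))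
  · obtain ⟨h, e, hm, hb, hl, hi, hr⟩ := ok3
    refine (bound_at h e hm hl hi (by rw [hr]; norm_num) Γ σ hσ).trans ?_
    rw [hb, Nat.factorization_one]; exact Nat.zero_le _
  · obtain ⟨h, e, hm, hb, hl, hi, hr⟩ := ok5
    refine (bound_at h e hm hl hi (by rw [hr]; norm_num) Γ σ hσ).trans ?_
    rw [hb, Nat.factorization_one]; exact Nat.zero_le _
  · rw [Tails.factorization_card_ker_of_orderOf σ hσ JTwo.hA (k := 1)
      (by rw [JTwo.orderOf_hA, pow_one]) (by rw [card_J]; norm_num)]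
    exact Nat.zero_le _

theorem hasMultiplier : Cfsg.HasCyclicSchurMultiplier Cfsg.Spor.J2 2 := hasMultiplier_of_bound card_ker_le

end CfsgLib.Schur.Sporadic.JTwo
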