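import Cfsg.Agent.Lib.Schur.TailsCert

/-!
Machine generated data for the 3-part of the multiplier of the Hall-Janko group.
-/

set_option autoImplicit false
set_option maxRecDepth 100000
set_option maxHeartbeats 0

namespace CfsgLib.Schur.Sporadic.JTwo

/-- Generators of the 3-subgroup with their inverses. -/
def kp3 : List (ℕ × ℕ) := [
    (0x50711b637a297b350a9c24c282ea6666b75090fb98f081c88d2c4df64430939331387acd1f43aa319a05ee223b6b6b1e0348cc0d2d61b08435d53aa210ea6583c28a22f6d801c8ae4a57027a578a6ece16529017eb4f06, 0x5b860ac89784912abada644edbdaa614fd51a228be8c41fc8971eeb1712b10e06e4b0b6082632a0957ba6b0efd6675011b1e8454f7a7064e54491b49a04ed8c0ae929b89ec86815cbc2344d4360e622a47800c9e938c214),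
    (0xac79c83635e74cc2b88dc6c91dcfa660fc51af6d5879062220e2d53f865d7cb9242ec00c86d8a4178e14b348da39535d607d414d16988ee32c31688509890fbe11c3202c0d278e959ab6b1aa481c6403727542955826102, 0x489adac36d9ed873359ccbd8c30da6c942aa97575c80bdf8c263a849860653c88ae74baab7099115c7a72262f968369083211549f28789566121d37a3892b56254552848c2340e76cbe382e7a28ce01208eec29ac000b89),
    (0xa044bc95921d1a853c8154515ea8a662d27a286a04976189d8f19a1b0a72e40be796bcbaec0992c31cd67d4b0099836abfc4521cdc765b2a00483305ccef5b07045321e0a524275d5a6c238fa516e10230f394af88dda88, 0x4eac7b17e75dc1394534a24d16cda6ca7e3b41942f965705e8f1ab03536cd4058ceabc7575a8a04940c53c624a0087dedf22902d4a040614115e7091afa4428971c52c2dec2a268b1592e3973616658000e861cc3659ca3)]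

/-- The fusing elements with their inverses. -/
def gp3 : List (ℕ × ℕ) := [
    (0xcbdac93721a3e853e5594b7520da6a6d4ea38d762789989d161dd2ca4719c0890554b8b5b099115c7bb341700956a0a03095591f425492d6eda830a972f5b7e78543728c83d1c32658024e6a28ee10028c9cc11be00b96, 0x9d31cb10676b1e3946c106ce951fa70e7a1b540691796705e161ddbf316df403770a4b6914b8a468b0dd82a64a0c5352445ef692e0d2abd52c31389506a442becdc05020132d1c942156a4ea128e658378d8d92b5820782)]

/-- Points telling the elements apart. -/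
def pts3 : List ℕ := [0, 1, 2, 10, 13]

/-- Words for all elements. -/
def words3 : List (List ℕ) := [
    [],
    [0, 1, 2],
    [0, 0, 1, 1],
    [2],
    [0, 1, 2, 2],
    [0, 0, 1, 1, 2],
    [1, 2],
    [0, 0],
    [0, 1, 1],
    [0, 1],
    [0, 0, 1, 1, 2, 2],
    [2, 2],
    [0, 1, 1, 2],
    [0, 0, 2],
    [1, 2, 2],
    [0, 0, 1, 2],
    [0],
    [1, 1],
    [1, 1, 2],
    [0, 0, 1, 2, 2],
    [0, 2],
    [1],
    [0, 1, 1, 2, 2],
    [0, 0, 2, 2],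
    [0, 2, 2],
    [1, 1, 2, 2],
    [0, 0, 1]]

/-- Words for the inner elements. -/
def inner3 : List (List ℕ) := [
    [],
    [2],
    [2, 2]]

/-- An equation. -/
def eq3_0 : CfsgLib.Schur.Tails.Form := [(-1, 0), (1, 0)]

/-- An equation. -/
def eq3_1 : CfsgLib.Schur.Tails.Form := [(-1, 0), (1, 3), (1, 4), (1, 3), (1, 4), (1, 4), (1, 3), (1, 0), (1, 2)]

/-- An equation. -/
def eq3_2 : CfsgLib.Schur.Tails.Form := [(-1, 3), (1, 1), (-1, 3), (-1, 3), (-1, 5), (-1, 5), (-1, 5), (-1, 1), (-1, 2)]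

/-- An equation. -/
def eq3_3 : CfsgLib.Schur.Tails.Form := [(-1, 3), (1, 5), (1, 4), (1, 3), (-1, 4), (-1, 5)]

/-- An equation. -/
def eq3_4 : CfsgLib.Schur.Tails.Form := [(-1, 0), (1, 4), (1, 4), (1, 4), (1, 0)]

/-- An equation. -/
def eq3_5 : CfsgLib.Schur.Tails.Form := [(-1, 4), (1, 2), (-1, 4), (-1, 4), (-1, 2)]

/-- An equation. -/
def eq3_6 : CfsgLib.Schur.Tails.Form := [(-1, 1), (1, 1)]

/-- An equation. -/
def eq3_7 : CfsgLib.Schur.Tails.Form := [(-1, 1), (1, 5), (1, 5), (1, 5), (1, 1)]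

/-- An equation. -/
def eq3_8 : CfsgLib.Schur.Tails.Form := [(-1, 5), (1, 2), (-1, 5), (-1, 5), (-1, 2)]

/-- An equation. -/
def eq3_9 : CfsgLib.Schur.Tails.Form := [(-1, 2), (1, 2)]

/-- An equation. -/
def eq3_10 : CfsgLib.Schur.Tails.Form := [(1, 0), (1, 0), (1, 6), (1, 6), (1, 6), (-1, 0)]

/-- An equation. -/
def eq3_11 : CfsgLib.Schur.Tails.Form := [(1, 5), (1, 1), (1, 5), (1, 5), (1, 5), (1, 5), (1, 5), (1, 1), (1, 2), (1, 7), (1, 7), (1, 7), (-1, 1)]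

/-- An equation. -/
def eq3_12 : CfsgLib.Schur.Tails.Form := [(1, 2), (1, 8), (1, 8), (1, 8), (-1, 2)]

/-- An equation. -/
def eq3_13 : CfsgLib.Schur.Tails.Form := [(1, 4), (1, 3), (1, 3), (1, 5), (1, 2), (1, 3), (1, 3), (1, 5), (1, 7), (1, 6), (-1, 6), (-1, 7), (-1, 8), (-1, 3)]

/-- An equation. -/
def eq3_14 : CfsgLib.Schur.Tails.Form := [(1, 4), (1, 4), (1, 8), (1, 6), (-1, 6), (-1, 8), (-1, 4)]

/-- An equation. -/
def eq3_15 : CfsgLib.Schur.Tails.Form := [(1, 5), (1, 5), (1, 8), (1, 7), (-1, 7), (-1, 8), (-1, 5)]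

/-- A combination. -/
def tgt3_0 : ℕ × ℤ × List (ℤ × ℕ) := (3, 0, [])

/-- A combination. -/
def tgt3_1 : ℕ × ℤ × List (ℤ × ℕ) := (4, 0, [(1, 14)])

/-- A combination. -/
def tgt3_2 : ℕ × ℤ × List (ℤ × ℕ) := (5, 0, [(1, 15)])

/-- A combination. -/
def tgt3_3 : ℕ × ℤ × List (ℤ × ℕ) := (2, 0, [(1, 1), (-3, 14)])

/-- The certificate. -/
def cert3 : CfsgLib.Schur.Tails.Cert :=
  { r := 3, a := 2, p := 3, fuel := 11, width := 3,
    rules := [([0, 0, 0], []), ([1, 1, 1], []), ([2, 2, 2], []), ([1, 0], [0, 1, 2]), ([2, 0], [0, 2]), ([2, 1], [1, 2])],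
    ix := [[0, 0, 0], [3, 1, 0], [4, 5, 2]],
    ovl := [([0], 0, []), ([1], 0, []), ([1, 1], 3, []), ([2], 3, []), ([2], 0, []), ([2, 2], 4, []), ([1], 1, []), ([2], 1, []), ([2, 2], 5, []), ([2], 2, [])],
    fus := [⟨[[0], [1], [2]], [[0, 0], [1, 1, 2], [2]], [([0, 0, 0], []), ([1, 1, 1], []), ([2, 2, 2], []), ([1, 0], [0, 1, 2]), ([2, 0], [0, 2]), ([2, 1], [1, 2])]⟩],
    eqs := [eq3_0, eq3_1, eq3_2, eq3_3, eq3_4, eq3_5, eq3_6, eq3_7, eq3_8, eq3_9, eq3_10, eq3_11, eq3_12, eq3_13, eq3_14, eq3_15],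
    lam := [[], [], [(-1, 3)]],
    gen := [], b := 1, m := 1,
    genC := [],
    targets := [tgt3_0, tgt3_1, tgt3_2, tgt3_3] }

end CfsgLib.Schur.Sporadic.JTwo
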