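import Cfsg.Agent.Lib.Schur.TailsCert

/-!
Machine generated data for the 5-part of the multiplier of the Hall-Janko group.
-/

set_option autoImplicit false
set_option maxRecDepth 100000
set_option maxHeartbeats 0

namespace CfsgLib.Schur.Sporadic.JTwo

/-- Generators of the 5-subgroup with their inverses. -/
def kp5 : List (ℕ × ℕ) := [
    (0x356044cacf4ccdbac9aae28730964f08ab36929b305038bcb488e081c719e1fbcbeca072def919d69fc91f722571610d98a56e038622a89e564e2a14c42abb055093e0f0c6e05aaa40c00e81c758a71069e768094a8a985, 0x8626a9472fedb254d9ee2617ce9a02ad2850edee609139a1119090b12d4a2a96a62f413839da87536ccfa1693cc7d6098b464854ba67c1c78c0903c80903565b8eeac93528d74465c1e6728a905e982612e2002e1a6e20f),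
    (0xaed469d2d699aaa066e3f110cae040a5ce26e06dd5494e547467d14161009ac6d2192d34c6a1089766ceb04a2e19779a38141459e42f9dab4c1c11b314a8e392507911d32f869e006425c9eb4650bec8374944bd385de04, 0x39418542ab9b599b784b3c6366399478edb26d1a965f24dbe90318b7ac42242b0982014a1e8ac9eff12dbaf5d43143de40497290b1c8c34b8f153d38ca300340eed1f057ea9a82c8c38325f09152ac2d744515001086712)]

/-- The fusing elements with their inverses. -/
def gp5 : List (ℕ × ℕ) := [
    (0xab66bd6a96ed58bd7715cc3831df78f9dbd7511fc381062c28d1e4ce992254b9b4a853a33dcb86ed9ab164cda3052a93a84cb97ac5aad29f465cda04860e1d4254c9e4458d0d1c3c811244ca0c16284880e0c2050c08080, 0xab66bd6a96ed58bd7715cc3831df78f9dbd7511fc381062c28d1e4ce992254b9b4a853a33dcb86ed9ab164cda3052a93a84cb97ac5aad29f465cda04860e1d4254c9e4458d0d1c3c811244ca0c16284880e0c2050c08080)]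

/-- Points telling the elements apart. -/
def pts5 : List ℕ := [0, 1, 2, 10, 13]

/-- Words for all elements. -/
def words5 : List (List ℕ) := [
    [0],
    [0, 0, 1, 1, 1, 1],
    [0, 1, 1, 1, 1],
    [],
    [0, 0, 1, 1, 1],
    [0, 0, 0, 0],
    [0, 0, 0, 0, 1, 1],
    [0, 0, 1, 1],
    [0, 1],
    [0, 0, 0, 1, 1, 1, 1],
    [0, 0],
    [1, 1, 1],
    [0, 0, 0, 1],
    [0, 0, 1],
    [1, 1],
    [0, 0, 0, 0, 1, 1, 1],
    [0, 0, 0],
    [0, 0, 0, 1, 1],
    [0, 0, 0, 0, 1, 1, 1, 1],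
    [1],
    [0, 1, 1, 1],
    [0, 0, 0, 0, 1],
    [0, 0, 0, 1, 1, 1],
    [1, 1, 1, 1],
    [0, 1, 1]]

/-- Words for the inner elements. -/
def inner5 : List (List ℕ) := [
    []]

/-- An equation. -/
def eq5_0 : CfsgLib.Schur.Tails.Form := [(-1, 0), (1, 0)]

/-- An equation. -/
def eq5_1 : CfsgLib.Schur.Tails.Form := [(-1, 0), (1, 2), (1, 2), (1, 2), (1, 2), (1, 2), (1, 0)]

/-- An equation. -/
def eq5_2 : CfsgLib.Schur.Tails.Form := [(-1, 2), (1, 1), (-1, 2), (-1, 2), (-1, 2), (-1, 2), (-1, 1)]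

/-- An equation. -/
def eq5_3 : CfsgLib.Schur.Tails.Form := [(-1, 1), (1, 1)]

/-- An equation. -/
def eq5_4 : CfsgLib.Schur.Tails.Form := [(1, 1), (1, 3), (1, 3), (1, 3), (1, 3), (1, 3), (-1, 0)]

/-- An equation. -/
def eq5_5 : CfsgLib.Schur.Tails.Form := [(1, 0), (1, 4), (1, 4), (1, 4), (1, 4), (1, 4), (-1, 1)]

/-- An equation. -/
def eq5_6 : CfsgLib.Schur.Tails.Form := [(-1, 2), (1, 4), (1, 3), (-1, 3), (-1, 4), (-1, 2)]

/-- A combination. -/
def tgt5_0 : ℕ × ℤ × List (ℤ × ℕ) := (2, 0, [(-1, 6)])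

/-- The certificate. -/
def cert5 : CfsgLib.Schur.Tails.Cert :=
  { r := 2, a := 2, p := 5, fuel := 8, width := 2,
    rules := [([0, 0, 0, 0, 0], []), ([1, 1, 1, 1, 1], []), ([1, 0], [0, 1])],
    ix := [[0, 0], [2, 1]],
    ovl := [([0], 0, []), ([1], 0, []), ([1, 1, 1, 1], 2, []), ([1], 1, [])],
    fus := [⟨[[0], [1]], [[1], [0]], [([0, 0, 0, 0, 0], []), ([1, 1, 1, 1, 1], []), ([1, 0], [0, 1])]⟩],
    eqs := [eq5_0, eq5_1, eq5_2, eq5_3, eq5_4, eq5_5, eq5_6],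
    lam := [[], []],
    gen := [], b := 1, m := 2,
    genC := [],
    targets := [tgt5_0] }

end CfsgLib.Schur.Sporadic.JTwo
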