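import Cfsg.Agent.Lib.Schur.JTwo.Data2
import Cfsg.Agent.Lib.Schur.JTwo.Data3
import Cfsg.Agent.Lib.Schur.JTwo.Data5
import Cfsg.Agent.Lib.Schur.TailsPerm
import Cfsg.Agent.Lib.SmallGroups.HallJanko

/-!
Kernel checks of the data for the multiplier of the Hall-Janko group.
-/

set_option autoImplicit false
set_option maxRecDepth 100000
set_option maxHeartbeats 0

namespace CfsgLib.Schur.Sporadic.JTwo

open CfsgLib.SmallGroups

/-- Pairs of permutations inside the group. -/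
def pairsOK (L : List (ℕ × ℕ)) : Bool :=
  L.all fun e => PermChain.ok 100 e && PermChain.sift 100 (HallJankoData.level1 :: HallJanko.chain₁) e.1

/-- All checks at one prime. -/
noncomputable def allOK (D : Tails.Cert) (kp gp : List (ℕ × ℕ)) (pts : List ℕ) (ws wi : List (List ℕ)) : Bool :=
  (pairsOK kp && pairsOK gp) &&
    ((D.eqsOK && (D.combOK && D.shapeOK)) &&
      ((Tails.relK 7 100 (kp.map Prod.fst) D && Tails.fusK 7 100 (kp.map Prod.fst) (gp.map Prod.fst) D) &&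
        (Tails.wordsOK 7 100 (kp.map Prod.fst) pts ws 0 D.r &&
          Tails.wordsOK 7 100 (kp.map Prod.fst) pts wi D.a D.r)))

theorem ok2 : allOK cert2 kp2 gp2 pts2 words2 inner2 = true ∧ cert2.p = 2 ∧ ¬ 2 ∣ cert2.m ∧ cert2.b = 2 ∧
    words2.length = 2 ^ cert2.r ∧ inner2.length = 2 ^ (cert2.r - cert2.a) ∧ cert2.r = 7 := by decide +kernel

theorem ok3 : allOK cert3 kp3 gp3 pts3 words3 inner3 = true ∧ cert3.p = 3 ∧ ¬ 3 ∣ cert3.m ∧ cert3.b = 1 ∧
    words3.length = 3 ^ cert3.r ∧ inner3.length = 3 ^ (cert3.r - cert3.a) ∧ cert3.r = 3 := by decide +kernel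

theorem ok5 : allOK cert5 kp5 gp5 pts5 words5 inner5 = true ∧ cert5.p = 5 ∧ ¬ 5 ∣ cert5.m ∧ cert5.b = 1 ∧
    words5.length = 5 ^ cert5.r ∧ inner5.length = 5 ^ (cert5.r - cert5.a) ∧ cert5.r = 2 := by decide +kernel

end CfsgLib.Schur.Sporadic.JTwo
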