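import Cfsg.Agent.Lib.Schur.TailsCert

/-!
Machine generated data for the 2-part of the multiplier of the Hall-Janko group.
-/

set_option autoImplicit false
set_option maxRecDepth 100000
set_option maxHeartbeats 0

namespace CfsgLib.Schur.Sporadic.JTwo

/-- Generators of the 2-subgroup with their inverses. -/
def kp2 : List (ℕ × ℕ) := [
    (0x8c8eb5b18a6003a045d362f264083f80dd2990c52ab08225508e0c617a4e7dd0e71da49d785b312c5814c64a5a744796802d06cb55098d577cb90d18abcee294acad37894ccd6f7dc861e146b2b4d2147b8407547e080ac, 0x667225224ea007c02d4cb4986404314105b82eca4f626eb55118cfc99c2555d068e1977b648c6276140a7031b353c896803532f276098b3cc4bd0caa6b8ebea294ac5aeaccb484cad061e146df7335bd47e40747b8080ac),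
    (0x718ad4d4d4a2bdb2daf4f96a9646bb6d4d188fdd2f7382bc84eae03bacdee5398f9761b12a4a884f2a508eb61e39d06fd56ac5a304ac99a23844694205cea34058c86061028a1204398243908f3c6c99a487ca881608600, 0x6189e4a5b669c1a586dbb930d635817a834b0bf03faee9cc86752ecf62dd7459cfae3689365e385695a94a9952898f59558d5a8b88f7d387389069b0c2cea31420c903c682a0123d11f183908106509842260a962e08900),
    (0x890a3418b0e0255535db0a38eaaebf3de4cb6e9ce04f5d9c85f25938b2fa85d56dd4cabcf5a56c4d65dac34d431a91d32cb94a7586cb5f9b1210ea424210932e0ca8c401cc8b4660a101e1411f1444e22341871e2c34080, 0xacdd9cca6ee02b9ed21a894e2aaf64aabc1a4a6d506af23485d86fe3bd8b05d4b09d51b33a6c47c9db3993158588f5132c7f6deb196b6e202620e971811089481ca92360cc91387c5101e14118282d19e2c187223434080),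
    (0x10f9fd1185084b373851e821d6273081d4a16f285a5ca6e006b1cf834909c866d8abcc2ed1e846ebd2e0a84911ac3247d56646696560632a39590d9a710ea3bce07459f8c2db277e1c04c646b277484a86374ab0b0096c8, 0x2cf97b4246c34929310037a896333e2b04d2f694bcb9417008c94c1e230ab90c389cce174609a6efe3ba56303846d2c0d54e92508a83dac338c50d28b60ea3b6c075376a02de26c955d5a646df9f644e3ad00ab88809348),
    (0xbcfa6358aa16d7c6fd82a5ceeacdbee23a7ad855b67b520c86981943b0de5a6798a4af631ae598539d25a14e7d2b4e602c95119db5376883465c69a189011c2c287120e50288267cf012065098441049b163caa02274300, 0xb6fa746a78d33950bdc43b93eaca64c12b362daa6182adec8a2eafaa88de4adb58a5bfacd575285330475315dd9795eeac9b613dea101a1e462c684244411c108070c446c296266018f0c6509f0e684942e04a8a4874800),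
    (0x70fa4d06566ebfa4e6f317912ac78b6e56054f5a416d470c8a8ce9d676de640b98a75786a6d63852d3cd8d7ec285cbd6ac4b3dd306a99597387909b3088ea34058c9f4868a8a12305901e38692225098406182880e08080, 0x70fa4d06566ebfa4e6f317912ac78b6e56054f5a416d470c8a8ce9d676de640b98a75786a6d63852d3cd8d7ec285cbd6ac4b3dd306a99597387909b3088ea34058c9f4868a8a12305901e38692225098406182880e08080),
    (0x5189b3a656e02ebcf294472c6aab8b65a29773254e93365c84ad69d85509edd5efa0da9f82bb06f863514f7eb387f7132ca90e86366b6391461d08a300ce9c2810c9f1620a9b263120602386922e80496444029a3c08780, 0x5189b3a656e02ebcf294472c6aab8b65a29773254e93365c84ad69d85509edd5efa0da9f82bb06f863514f7eb387f7132ca90e86366b6391461d08a300ce9c2810c9f1620a9b263120602386922e80496444029a3c08780)]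

/-- The fusing elements with their inverses. -/
def gp2 : List (ℕ × ℕ) := [
    (0xe649d182fdd32b9884281958eda9e12b9492dc5c28a469a6486d5306ab0c293854fbec328947002503c9b32254477eca1729c5036978bb6058eaa2b6c430d56bc2d2666aea503425ce863a4608c7879670f602eb041dad, 0x4569d8c5c98adb3f51683a3590b09263012a6419b222ea78d702e5b11f32f85bcf033403755879c921a72f70f44341004237160585520a475e816357a2aabf8c5b1414a21f50c2e65021238e579aa5b59c674cd2508c9b7)]

/-- Points telling the elements apart. -/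
def pts2 : List ℕ := [0, 1, 2, 10, 13]

/-- Words for all elements. -/
def words2 : List (List ℕ) := [
    [1, 2, 5, 6],
    [1, 2],
    [2, 5],
    [2],
    [2, 5, 6],
    [1, 2, 5],
    [1, 2, 6],
    [2, 6],
    [2, 3, 5],
    [0, 1, 2, 6],
    [0, 1, 2, 5],
    [1, 2, 3, 5],
    [0, 1, 2, 3, 6],
    [0, 2],
    [2, 3, 6],
    [0, 2, 5, 6],
    [0, 2, 3, 5, 6],
    [0, 1, 2, 5, 6],
    [0, 2, 3, 5],
    [2, 3, 5, 6],
    [1, 2, 3],
    [0, 1, 2, 3, 5, 6],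
    [0, 1, 2, 3, 5],
    [0, 2, 3],
    [0, 2, 3, 6],
    [2, 3],
    [1, 2, 3, 5, 6],
    [0, 2, 6],
    [1, 2, 3, 6],
    [0, 2, 5],
    [0, 1, 2],
    [0, 1, 2, 3],
    [1, 4, 5, 6],
    [1, 4],
    [],
    [5],
    [1, 4, 6],
    [1, 4, 5],
    [5, 6],
    [6],
    [0, 1, 4, 6],
    [0, 1, 3, 4, 5],
    [1, 3, 4, 6],
    [0, 3, 5, 6],
    [0, 1, 4, 5],
    [1, 3, 4, 5],
    [0, 1, 3, 4, 5, 6],
    [0],
    [0, 1, 3, 4, 6],
    [1, 3, 4, 5, 6],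
    [0, 3, 6],
    [0, 1, 3, 4],
    [0, 1, 4],
    [0, 5, 6],
    [0, 5],
    [0, 3, 5],
    [0, 6],
    [3],
    [0, 1, 4, 5, 6],
    [3, 6],
    [3, 5],
    [3, 5, 6],
    [0, 3],
    [1, 3, 4],
    [2, 4, 6],
    [2, 4, 5, 6],
    [1, 2, 4, 6],
    [1, 2, 4, 5],
    [1, 2, 4],
    [2, 4],
    [2, 4, 5],
    [1, 2, 4, 5, 6],
    [1, 2, 3, 4, 6],
    [0, 2, 4, 5],
    [0, 2, 4],
    [2, 3, 4],
    [0, 2, 3, 4, 5],
    [0, 1, 2, 4, 5],
    [1, 2, 3, 4, 5, 6],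
    [0, 1, 2, 4],
    [0, 1, 2, 3, 4],
    [0, 2, 4, 6],
    [0, 1, 2, 3, 4, 6],
    [1, 2, 3, 4],
    [2, 3, 4, 5, 6],
    [0, 2, 3, 4, 6],
    [0, 2, 3, 4],
    [0, 1, 2, 3, 4, 5],
    [0, 1, 2, 3, 4, 5, 6],
    [1, 2, 3, 4, 5],
    [2, 3, 4, 6],
    [0, 1, 2, 4, 5, 6],
    [2, 3, 4, 5],
    [0, 1, 2, 4, 6],
    [0, 2, 4, 5, 6],
    [0, 2, 3, 4, 5, 6],
    [4],
    [4, 5],
    [1, 5],
    [1, 6],
    [4, 5, 6],
    [4, 6],
    [1],
    [1, 5, 6],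
    [0, 4, 5, 6],
    [0, 3, 4],
    [3, 4, 5],
    [0, 1, 3, 6],
    [0, 4, 6],
    [3, 4],
    [0, 3, 4, 6],
    [0, 1, 5],
    [0, 3, 4, 5],
    [3, 4, 6],
    [0, 1, 3, 5],
    [0, 3, 4, 5, 6],
    [0, 4, 5],
    [0, 1],
    [0, 1, 6],
    [0, 1, 3],
    [0, 1, 5, 6],
    [1, 3, 5, 6],
    [0, 4],
    [1, 3, 5],
    [1, 3],
    [1, 3, 6],
    [0, 1, 3, 5, 6],
    [3, 4, 5, 6]]

/-- Words for the inner elements. -/
def inner2 : List (List ℕ) := [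
    [],
    [5],
    [5, 6],
    [6],
    [3],
    [3, 6],
    [3, 5],
    [3, 5, 6],
    [4],
    [4, 5],
    [4, 5, 6],
    [4, 6],
    [3, 4, 5],
    [3, 4],
    [3, 4, 6],
    [3, 4, 5, 6]]

/-- An equation. -/
def eq2_0 : CfsgLib.Schur.Tails.Form := [(-1, 0), (1, 0), (1, 17)]

/-- An equation. -/
def eq2_1 : CfsgLib.Schur.Tails.Form := [(-1, 0), (1, 7), (1, 10), (1, 7), (1, 0), (1, 18), (1, 25), (1, 20), (1, 25), (1, 20), (1, 3), (1, 27), (1, 6)]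

/-- An equation. -/
def eq2_2 : CfsgLib.Schur.Tails.Form := [(-1, 7), (1, 1), (1, 22), (-1, 7), (-1, 11), (-1, 1), (-1, 25), (-1, 6), (-1, 3)]

/-- An equation. -/
def eq2_3 : CfsgLib.Schur.Tails.Form := [(-1, 7), (1, 9), (1, 13), (1, 8), (1, 7), (1, 12), (1, 27), (1, 5), (1, 26), (1, 27), (1, 6), (-1, 8), (-1, 18), (-1, 9), (-1, 25), (-1, 20), (-1, 16), (-1, 27), (-1, 6)]

/-- An equation. -/
def eq2_4 : CfsgLib.Schur.Tails.Form := [(-1, 7), (1, 11), (1, 22), (1, 10), (1, 7), (1, 3), (1, 6), (-1, 10), (-1, 11), (-1, 25), (-1, 3), (-1, 6)]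

/-- An equation. -/
def eq2_5 : CfsgLib.Schur.Tails.Form := [(-1, 7), (1, 14), (1, 22), (1, 13), (1, 7), (1, 6), (-1, 13), (-1, 23), (-1, 18), (-1, 14), (-1, 27), (-1, 6), (-1, 25), (-1, 20), (-1, 16), (-1, 27), (-1, 6)]

/-- An equation. -/
def eq2_6 : CfsgLib.Schur.Tails.Form := [(-1, 7), (1, 18), (1, 22), (1, 17), (1, 7), (-1, 17), (-1, 18), (-1, 25), (-1, 20)]

/-- An equation. -/
def eq2_7 : CfsgLib.Schur.Tails.Form := [(-1, 7), (1, 23), (1, 22), (1, 7), (-1, 22), (-1, 23), (-1, 25)]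

/-- An equation. -/
def eq2_8 : CfsgLib.Schur.Tails.Form := [(-1, 0), (1, 8), (1, 17), (1, 8), (1, 0), (1, 19), (1, 5)]

/-- An equation. -/
def eq2_9 : CfsgLib.Schur.Tails.Form := [(-1, 8), (1, 2), (1, 17), (-1, 8), (-1, 19), (-1, 2), (-1, 5)]

/-- An equation. -/
def eq2_10 : CfsgLib.Schur.Tails.Form := [(-1, 8), (1, 12), (1, 22), (1, 17), (1, 10), (1, 8), (1, 20), (1, 5), (-1, 10), (-1, 12), (-1, 27), (-1, 5)]

/-- An equation. -/
def eq2_11 : CfsgLib.Schur.Tails.Form := [(-1, 8), (1, 15), (1, 13), (1, 8), (1, 21), (1, 5), (-1, 13), (-1, 24), (-1, 19), (-1, 15), (-1, 27), (-1, 5)]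

/-- An equation. -/
def eq2_12 : CfsgLib.Schur.Tails.Form := [(-1, 8), (1, 19), (1, 17), (1, 8), (1, 5), (-1, 17), (-1, 19), (-1, 5)]

/-- An equation. -/
def eq2_13 : CfsgLib.Schur.Tails.Form := [(-1, 8), (1, 24), (1, 22), (1, 8), (-1, 22), (-1, 24), (-1, 27)]

/-- An equation. -/
def eq2_14 : CfsgLib.Schur.Tails.Form := [(-1, 0), (1, 10), (1, 10), (1, 0), (1, 20)]

/-- An equation. -/
def eq2_15 : CfsgLib.Schur.Tails.Form := [(-1, 10), (1, 3), (1, 22), (-1, 10), (-1, 3)]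

/-- An equation. -/
def eq2_16 : CfsgLib.Schur.Tails.Form := [(-1, 10), (1, 16), (1, 22), (1, 13), (1, 10), (1, 6), (-1, 13), (-1, 25), (-1, 20), (-1, 16), (-1, 27), (-1, 6)]

/-- An equation. -/
def eq2_17 : CfsgLib.Schur.Tails.Form := [(-1, 10), (1, 20), (1, 17), (1, 10), (-1, 17), (-1, 20)]

/-- An equation. -/
def eq2_18 : CfsgLib.Schur.Tails.Form := [(-1, 10), (1, 25), (1, 22), (1, 10), (-1, 22), (-1, 25)]

/-- An equation. -/
def eq2_19 : CfsgLib.Schur.Tails.Form := [(-1, 0), (1, 13), (1, 22), (1, 17), (1, 13), (1, 0), (1, 21), (1, 5), (1, 27), (1, 6)]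

/-- An equation. -/
def eq2_20 : CfsgLib.Schur.Tails.Form := [(-1, 13), (1, 4), (1, 22), (-1, 13), (-1, 26), (-1, 21), (-1, 4), (-1, 27), (-1, 6), (-1, 5)]

/-- An equation. -/
def eq2_21 : CfsgLib.Schur.Tails.Form := [(-1, 13), (1, 21), (1, 17), (1, 13), (1, 27), (1, 5), (-1, 17), (-1, 21), (-1, 5)]

/-- An equation. -/
def eq2_22 : CfsgLib.Schur.Tails.Form := [(-1, 13), (1, 26), (1, 22), (1, 13), (1, 6), (-1, 22), (-1, 26), (-1, 27), (-1, 6)]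

/-- An equation. -/
def eq2_23 : CfsgLib.Schur.Tails.Form := [(-1, 0), (1, 17), (1, 17), (1, 0), (1, 5), (-1, 5)]

/-- An equation. -/
def eq2_24 : CfsgLib.Schur.Tails.Form := [(-1, 17), (1, 5), (-1, 17), (-1, 5)]

/-- An equation. -/
def eq2_25 : CfsgLib.Schur.Tails.Form := [(-1, 17), (1, 27), (1, 22), (1, 17), (-1, 22), (-1, 27)]

/-- An equation. -/
def eq2_26 : CfsgLib.Schur.Tails.Form := [(-1, 0), (1, 22), (1, 22), (1, 0), (-1, 27)]

/-- An equation. -/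
def eq2_27 : CfsgLib.Schur.Tails.Form := [(-1, 22), (1, 6), (-1, 22), (-1, 6)]

/-- An equation. -/
def eq2_28 : CfsgLib.Schur.Tails.Form := [(-1, 1), (1, 1), (1, 23)]

/-- An equation. -/
def eq2_29 : CfsgLib.Schur.Tails.Form := [(-1, 1), (1, 9), (1, 14), (1, 9), (1, 1), (1, 24), (1, 26), (1, 26), (1, 4), (1, 6)]

/-- An equation. -/
def eq2_30 : CfsgLib.Schur.Tails.Form := [(-1, 9), (1, 2), (1, 18), (-1, 9), (-1, 15), (-1, 2), (-1, 21), (-1, 21), (-1, 4), (-1, 27)]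

/-- An equation. -/
def eq2_31 : CfsgLib.Schur.Tails.Form := [(-1, 9), (1, 12), (1, 23), (1, 18), (1, 11), (1, 9), (1, 16), (1, 6), (1, 6), (-1, 11), (-1, 24), (-1, 12), (-1, 6), (-1, 21)]

/-- An equation. -/
def eq2_32 : CfsgLib.Schur.Tails.Form := [(-1, 9), (1, 15), (1, 14), (1, 9), (1, 4), (1, 6), (-1, 14), (-1, 24), (-1, 15), (-1, 26), (-1, 4), (-1, 6)]

/-- An equation. -/
def eq2_33 : CfsgLib.Schur.Tails.Form := [(-1, 9), (1, 19), (1, 18), (1, 9), (-1, 18), (-1, 24), (-1, 19), (-1, 26), (-1, 21)]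

/-- An equation. -/
def eq2_34 : CfsgLib.Schur.Tails.Form := [(-1, 9), (1, 24), (1, 23), (1, 9), (-1, 23), (-1, 24), (-1, 26)]

/-- An equation. -/
def eq2_35 : CfsgLib.Schur.Tails.Form := [(-1, 1), (1, 11), (1, 23), (1, 11), (1, 1), (1, 25), (1, 6)]

/-- An equation. -/
def eq2_36 : CfsgLib.Schur.Tails.Form := [(-1, 11), (1, 3), (1, 23), (-1, 11), (-1, 25), (-1, 3), (-1, 6)]

/-- An equation. -/
def eq2_37 : CfsgLib.Schur.Tails.Form := [(-1, 11), (1, 16), (1, 23), (1, 14), (1, 11), (1, 26), (1, 6), (-1, 14), (-1, 25), (-1, 16), (-1, 6)]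

/-- An equation. -/
def eq2_38 : CfsgLib.Schur.Tails.Form := [(-1, 11), (1, 20), (1, 18), (1, 11), (1, 27), (1, 6), (-1, 18), (-1, 25), (-1, 20), (-1, 6)]

/-- An equation. -/
def eq2_39 : CfsgLib.Schur.Tails.Form := [(-1, 11), (1, 25), (1, 23), (1, 11), (1, 6), (-1, 23), (-1, 25), (-1, 6)]

/-- An equation. -/
def eq2_40 : CfsgLib.Schur.Tails.Form := [(-1, 1), (1, 14), (1, 23), (1, 14), (1, 1), (1, 26), (1, 6)]

/-- An equation. -/
def eq2_41 : CfsgLib.Schur.Tails.Form := [(-1, 14), (1, 4), (1, 23), (-1, 14), (-1, 26), (-1, 4), (-1, 6)]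

/-- An equation. -/
def eq2_42 : CfsgLib.Schur.Tails.Form := [(-1, 14), (1, 21), (1, 18), (1, 14), (1, 27), (1, 6), (-1, 18), (-1, 26), (-1, 21), (-1, 6)]

/-- An equation. -/
def eq2_43 : CfsgLib.Schur.Tails.Form := [(-1, 14), (1, 26), (1, 23), (1, 14), (1, 6), (-1, 23), (-1, 26), (-1, 6)]

/-- An equation. -/
def eq2_44 : CfsgLib.Schur.Tails.Form := [(-1, 1), (1, 18), (1, 23), (1, 18), (1, 1), (1, 27), (1, 6)]

/-- An equation. -/
def eq2_45 : CfsgLib.Schur.Tails.Form := [(-1, 18), (1, 5), (-1, 18), (-1, 27), (-1, 5), (-1, 6)]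

/-- An equation. -/
def eq2_46 : CfsgLib.Schur.Tails.Form := [(-1, 18), (1, 27), (1, 23), (1, 18), (1, 6), (-1, 23), (-1, 27), (-1, 6)]

/-- An equation. -/
def eq2_47 : CfsgLib.Schur.Tails.Form := [(-1, 1), (1, 23), (1, 23), (1, 1), (1, 6), (-1, 6)]

/-- An equation. -/
def eq2_48 : CfsgLib.Schur.Tails.Form := [(-1, 23), (1, 6), (-1, 23), (-1, 6)]

/-- An equation. -/
def eq2_49 : CfsgLib.Schur.Tails.Form := [(-1, 2), (1, 2), (1, 19)]

/-- An equation. -/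
def eq2_50 : CfsgLib.Schur.Tails.Form := [(-1, 2), (1, 12), (1, 24), (1, 19), (1, 12), (1, 2), (1, 20), (1, 5), (1, 27), (1, 6)]

/-- An equation. -/
def eq2_51 : CfsgLib.Schur.Tails.Form := [(-1, 12), (1, 3), (1, 24), (-1, 12), (-1, 25), (-1, 20), (-1, 3), (-1, 27), (-1, 6), (-1, 5)]

/-- An equation. -/
def eq2_52 : CfsgLib.Schur.Tails.Form := [(-1, 12), (1, 16), (1, 24), (1, 15), (1, 12), (1, 26), (1, 21), (1, 6), (-1, 15), (-1, 16), (-1, 27), (-1, 6)]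

/-- An equation. -/
def eq2_53 : CfsgLib.Schur.Tails.Form := [(-1, 12), (1, 20), (1, 19), (1, 12), (1, 27), (1, 5), (-1, 19), (-1, 20), (-1, 5)]

/-- An equation. -/
def eq2_54 : CfsgLib.Schur.Tails.Form := [(-1, 12), (1, 25), (1, 24), (1, 12), (1, 6), (-1, 24), (-1, 25), (-1, 27), (-1, 6)]

/-- An equation. -/
def eq2_55 : CfsgLib.Schur.Tails.Form := [(-1, 2), (1, 15), (1, 15), (1, 2), (1, 21)]

/-- An equation. -/
def eq2_56 : CfsgLib.Schur.Tails.Form := [(-1, 15), (1, 4), (1, 24), (-1, 15), (-1, 4)]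

/-- An equation. -/
def eq2_57 : CfsgLib.Schur.Tails.Form := [(-1, 15), (1, 21), (1, 19), (1, 15), (-1, 19), (-1, 21)]

/-- An equation. -/
def eq2_58 : CfsgLib.Schur.Tails.Form := [(-1, 15), (1, 26), (1, 24), (1, 15), (-1, 24), (-1, 26)]

/-- An equation. -/
def eq2_59 : CfsgLib.Schur.Tails.Form := [(-1, 2), (1, 19), (1, 19), (1, 2), (1, 5), (-1, 5)]

/-- An equation. -/
def eq2_60 : CfsgLib.Schur.Tails.Form := [(-1, 19), (1, 5), (-1, 19), (-1, 5)]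

/-- An equation. -/
def eq2_61 : CfsgLib.Schur.Tails.Form := [(-1, 19), (1, 27), (1, 24), (1, 19), (-1, 24), (-1, 27)]

/-- An equation. -/
def eq2_62 : CfsgLib.Schur.Tails.Form := [(-1, 2), (1, 24), (1, 24), (1, 2), (-1, 27)]

/-- An equation. -/
def eq2_63 : CfsgLib.Schur.Tails.Form := [(-1, 24), (1, 6), (-1, 24), (-1, 6)]

/-- An equation. -/
def eq2_64 : CfsgLib.Schur.Tails.Form := [(-1, 3), (1, 3), (1, 25)]

/-- An equation. -/
def eq2_65 : CfsgLib.Schur.Tails.Form := [(-1, 3), (1, 16), (1, 25), (1, 16), (1, 3), (1, 26), (1, 6)]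

/-- An equation. -/
def eq2_66 : CfsgLib.Schur.Tails.Form := [(-1, 16), (1, 4), (1, 25), (-1, 16), (-1, 26), (-1, 4), (-1, 6)]

/-- An equation. -/
def eq2_67 : CfsgLib.Schur.Tails.Form := [(-1, 16), (1, 21), (1, 20), (1, 16), (1, 27), (-1, 20), (-1, 21)]

/-- An equation. -/
def eq2_68 : CfsgLib.Schur.Tails.Form := [(-1, 16), (1, 26), (1, 25), (1, 16), (1, 6), (-1, 25), (-1, 26), (-1, 6)]

/-- An equation. -/
def eq2_69 : CfsgLib.Schur.Tails.Form := [(-1, 3), (1, 20), (1, 20), (1, 3), (1, 27)]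

/-- An equation. -/
def eq2_70 : CfsgLib.Schur.Tails.Form := [(-1, 20), (1, 5), (-1, 20), (-1, 5)]

/-- An equation. -/
def eq2_71 : CfsgLib.Schur.Tails.Form := [(-1, 20), (1, 27), (1, 25), (1, 20), (-1, 25), (-1, 27)]

/-- An equation. -/
def eq2_72 : CfsgLib.Schur.Tails.Form := [(-1, 3), (1, 25), (1, 25), (1, 3), (1, 6), (-1, 6)]

/-- An equation. -/
def eq2_73 : CfsgLib.Schur.Tails.Form := [(-1, 25), (1, 6), (-1, 25), (-1, 6)]

/-- An equation. -/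
def eq2_74 : CfsgLib.Schur.Tails.Form := [(-1, 4), (1, 4), (1, 26)]

/-- An equation. -/
def eq2_75 : CfsgLib.Schur.Tails.Form := [(-1, 4), (1, 21), (1, 21), (1, 4), (1, 27)]

/-- An equation. -/
def eq2_76 : CfsgLib.Schur.Tails.Form := [(-1, 21), (1, 5), (-1, 21), (-1, 5)]

/-- An equation. -/
def eq2_77 : CfsgLib.Schur.Tails.Form := [(-1, 21), (1, 27), (1, 26), (1, 21), (-1, 26), (-1, 27)]

/-- An equation. -/
def eq2_78 : CfsgLib.Schur.Tails.Form := [(-1, 4), (1, 26), (1, 26), (1, 4), (1, 6), (-1, 6)]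

/-- An equation. -/
def eq2_79 : CfsgLib.Schur.Tails.Form := [(-1, 26), (1, 6), (-1, 26), (-1, 6)]

/-- An equation. -/
def eq2_80 : CfsgLib.Schur.Tails.Form := [(-1, 5), (1, 5)]

/-- An equation. -/
def eq2_81 : CfsgLib.Schur.Tails.Form := [(-1, 5), (1, 27), (1, 27), (1, 5)]

/-- An equation. -/
def eq2_82 : CfsgLib.Schur.Tails.Form := [(-1, 27), (1, 6), (-1, 27), (-1, 6)]

/-- An equation. -/
def eq2_83 : CfsgLib.Schur.Tails.Form := [(-1, 6), (1, 6)]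

/-- An equation. -/
def eq2_84 : CfsgLib.Schur.Tails.Form := [(1, 2), (1, 28), (1, 28), (-1, 31), (-1, 25), (-1, 3), (-1, 6)]

/-- An equation. -/
def eq2_85 : CfsgLib.Schur.Tails.Form := [(1, 22), (1, 17), (1, 8), (1, 0), (1, 19), (1, 5), (1, 24), (1, 19), (1, 2), (1, 5), (1, 27), (1, 6), (1, 29), (1, 29), (-1, 31), (-1, 1)]

/-- An equation. -/
def eq2_86 : CfsgLib.Schur.Tails.Form := [(1, 17), (1, 0), (1, 5), (1, 30), (1, 30), (-1, 31), (-1, 4)]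

/-- An equation. -/
def eq2_87 : CfsgLib.Schur.Tails.Form := [(1, 5), (1, 31), (1, 31), (-1, 6)]

/-- An equation. -/
def eq2_88 : CfsgLib.Schur.Tails.Form := [(1, 24), (1, 19), (1, 2), (1, 5), (-1, 8), (-1, 19), (-1, 2), (-1, 5), (-1, 27), (-1, 5), (1, 29), (1, 28), (-1, 28), (-1, 29), (-1, 31), (1, 23), (1, 11), (1, 6)]

/-- An equation. -/
def eq2_89 : CfsgLib.Schur.Tails.Form := [(1, 19), (-1, 8), (-1, 5), (1, 30), (1, 28), (-1, 28), (-1, 30), (-1, 31), (-1, 16), (-1, 6), (1, 26), (1, 6)]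

/-- An equation. -/
def eq2_90 : CfsgLib.Schur.Tails.Form := [(1, 17), (1, 0), (1, 5), (-1, 22), (-1, 17), (-1, 8), (-1, 0), (-1, 19), (-1, 5), (-1, 27), (-1, 5), (-1, 27), (1, 30), (1, 29), (-1, 29), (-1, 30), (-1, 31), (-1, 14)]

/-- An equation. -/
def eq2_91 : CfsgLib.Schur.Tails.Form := [(1, 19), (1, 31), (1, 28), (-1, 28), (-1, 31), (-1, 25), (-1, 6), (1, 6)]

/-- An equation. -/
def eq2_92 : CfsgLib.Schur.Tails.Form := [(1, 17), (1, 19), (1, 5), (-1, 27), (-1, 5), (1, 31), (1, 29), (-1, 29), (-1, 31), (-1, 23)]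

/-- An equation. -/
def eq2_93 : CfsgLib.Schur.Tails.Form := [(1, 17), (1, 5), (-1, 5), (1, 31), (1, 30), (-1, 30), (-1, 31), (-1, 26)]

/-- A combination. -/
def tgt2_0 : ℕ × ℤ × List (ℤ × ℕ) := (7, 0, [])

/-- A combination. -/
def tgt2_1 : ℕ × ℤ × List (ℤ × ℕ) := (8, 0, [])

/-- A combination. -/
def tgt2_2 : ℕ × ℤ × List (ℤ × ℕ) := (9, 0, [])

/-- A combination. -/
def tgt2_3 : ℕ × ℤ × List (ℤ × ℕ) := (10, 0, [(3, 1), (3, 2), (-5, 4), (-1, 5), (7, 6), (2, 7), (2, 8), (-2, 19), (-2, 20), (-4, 28), (3, 32), (2, 45), (-3, 49), (2, 87), (3, 88), (1, 89)])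

/-- A combination. -/
def tgt2_4 : ℕ × ℤ × List (ℤ × ℕ) := (11, 0, [])

/-- A combination. -/
def tgt2_5 : ℕ × ℤ × List (ℤ × ℕ) := (12, 3, [])

/-- A combination. -/
def tgt2_6 : ℕ × ℤ × List (ℤ × ℕ) := (13, 3, [(-15, 0), (-3, 3), (-22, 4), (-2, 5), (5, 6), (22, 7), (4, 8), (11, 19), (8, 20), (-5, 28), (3, 31), (-3, 32), (4, 45), (-12, 49), (4, 87), (8, 89)])

/-- A combination. -/
def tgt2_7 : ℕ × ℤ × List (ℤ × ℕ) := (14, 0, [(9, 0), (3, 4), (6, 5), (-6, 6), (-3, 7), (-6, 8), (-3, 19), (-3, 20), (9, 28), (-3, 32), (-3, 45), (9, 49), (-6, 87), (-3, 88), (-6, 89), (-3, 90)])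

/-- A combination. -/
def tgt2_8 : ℕ × ℤ × List (ℤ × ℕ) := (15, 0, [(-3, 0), (-11, 4), (5, 5), (-5, 6), (11, 7), (-1, 8), (4, 19), (4, 20), (-1, 28), (-3, 29), (-3, 30), (6, 31), (-9, 32), (-1, 45), (-3, 49), (-1, 87), (1, 89), (-3, 90)])

/-- A combination. -/
def tgt2_9 : ℕ × ℤ × List (ℤ × ℕ) := (16, 0, [(6, 0), (4, 4), (2, 5), (-2, 6), (-4, 7), (-4, 8), (-2, 19), (-2, 20), (5, 28), (-3, 32), (-1, 45), (9, 49), (-4, 87), (-3, 88), (-5, 89)])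

/-- A combination. -/
def tgt2_10 : ℕ × ℤ × List (ℤ × ℕ) := (17, 0, [(3, 0)])

/-- A combination. -/
def tgt2_11 : ℕ × ℤ × List (ℤ × ℕ) := (18, 0, [(3, 0), (3, 5), (-3, 6), (-3, 8), (6, 28), (-3, 32), (-3, 45), (6, 49), (-3, 87), (-3, 88), (-3, 89)])

/-- A combination. -/
def tgt2_12 : ℕ × ℤ × List (ℤ × ℕ) := (19, 0, [(3, 49)])

/-- A combination. -/
def tgt2_13 : ℕ × ℤ × List (ℤ × ℕ) := (20, 0, [(3, 4), (-3, 6)])

/-- A combination. -/
def tgt2_14 : ℕ × ℤ × List (ℤ × ℕ) := (21, 0, [(9, 0), (14, 4), (1, 5), (-1, 6), (-14, 7), (-2, 8), (-7, 19), (-7, 20), (4, 28), (-3, 31), (3, 32), (-2, 45), (6, 49), (-2, 87), (-4, 89)])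

/-- A combination. -/
def tgt2_15 : ℕ × ℤ × List (ℤ × ℕ) := (22, 0, [(3, 4), (-3, 7)])

/-- A combination. -/
def tgt2_16 : ℕ × ℤ × List (ℤ × ℕ) := (23, 0, [(3, 28)])

/-- A combination. -/
def tgt2_17 : ℕ × ℤ × List (ℤ × ℕ) := (24, 0, [(-3, 0), (-6, 4), (6, 7), (3, 19), (3, 20), (-3, 32)])

/-- A combination. -/
def tgt2_18 : ℕ × ℤ × List (ℤ × ℕ) := (25, 0, [(-3, 7)])

/-- A combination. -/
def tgt2_19 : ℕ × ℤ × List (ℤ × ℕ) := (26, 0, [(3, 0), (6, 4), (-6, 7), (-3, 19), (-3, 20)])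

/-- A combination. -/
def tgt2_20 : ℕ × ℤ × List (ℤ × ℕ) := (27, 0, [(-3, 0), (-4, 4), (-2, 5), (2, 6), (4, 7), (1, 8), (2, 19), (2, 20), (-2, 28), (1, 45), (-3, 49), (1, 87), (2, 89)])

/-- A combination. -/
def tgt2_21 : ℕ × ℤ × List (ℤ × ℕ) := (3, 0, [(3, 0), (-3, 2), (-1, 4), (4, 5), (-4, 6), (4, 7), (-5, 8), (2, 19), (2, 20), (10, 28), (-6, 32), (-2, 45), (9, 49), (-5, 87), (-6, 88), (-4, 89)])

/-- A combination. -/
def tgt2_22 : ℕ × ℤ × List (ℤ × ℕ) := (4, 0, [(-9, 0), (-13, 4), (-2, 5), (2, 6), (13, 7), (1, 8), (8, 19), (8, 20), (1, 28), (3, 29), (1, 45), (1, 87), (-3, 88), (2, 89), (3, 90)])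

/-- A combination. -/
def tgt2_23 : ℕ × ℤ × List (ℤ × ℕ) := (5, 0, [(-3, 0), (3, 8), (-3, 49)])

/-- A combination. -/
def tgt2_24 : ℕ × ℤ × List (ℤ × ℕ) := (6, 0, [(-3, 0), (4, 4), (-4, 5), (4, 6), (-4, 7), (5, 8), (-2, 19), (-2, 20), (-10, 28), (6, 32), (2, 45), (-9, 49), (5, 87), (6, 88), (4, 89)])

/-- The certificate. -/
def cert2 : CfsgLib.Schur.Tails.Cert :=
  { r := 7, a := 3, p := 2, fuel := 14, width := 4,
    rules := [([0, 0], [5]), ([1, 1], [6]), ([2, 2], [5]), ([3, 3], [6]), ([4, 4], [6]), ([5, 5], []), ([6, 6], []), ([1, 0], [0, 1, 3]), ([2, 0], [0, 2, 5]), ([2, 1], [1, 2, 4]), ([3, 0], [0, 3]), ([3, 1], [1, 3, 6]), ([3, 2], [2, 3, 5, 6]), ([4, 0], [0, 4, 5, 6]), ([4, 1], [1, 4, 6]), ([4, 2], [2, 4]), ([4, 3], [3, 4, 6]), ([5, 0], [0, 5]), ([5, 1], [1, 5, 6]), ([5, 2], [2, 5]), ([5, 3], [3, 5]), ([5, 4], [4, 5]), ([6, 0], [0, 6]), ([6, 1], [1, 6]), ([6, 2], [2,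 6]), ([6, 3], [3, 6]), ([6, 4], [4, 6]), ([6, 5], [5, 6])],
    ix := [[0, 0, 0, 0, 0, 0, 0], [7, 1, 0, 0, 0, 0, 0], [8, 9, 2, 0, 0, 0, 0], [10, 11, 12, 3, 0, 0, 0], [13, 14, 15, 16, 4, 0, 0], [17, 18, 19, 20, 21, 5, 0], [22, 23, 24, 25, 26, 27, 6]],
    ovl := [([0], 0, []), ([1], 0, []), ([1], 7, []), ([2], 7, []), ([3], 7, []), ([4], 7, []), ([5], 7, []), ([6], 7, []), ([2], 0, []), ([2], 8, []), ([3], 8, []), ([4], 8, []), ([5], 8, []), ([6], 8, []), ([3], 0, []), ([3], 10, []), ([4], 10, []), ([5], 10, []), ([6], 10, []), ([4], 0, []), ([4], 13, []), ([5], 13, []), ([6], 13, []), ([5], 0, []), ([5], 17, []), ([6], 17, []), ([6], 0, []), ([6], 22, []), ([1], 1, []), ([2], 1, []), ([2], 9, []), ([3], 9, []), ([4], 9, []), ([5], 9, []), ([6], 9, []), ([3], 1, []), ([3], 11, []), ([4], 11, []), ([5], 11, []), ([6], 11, []), ([4], 1, []), ([4], 14, []), ([5], 14, []), ([6], 14,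 []), ([5], 1, []), ([5], 18, []), ([6], 18, []), ([6], 1, []), ([6], 23, []), ([2], 2, []), ([3], 2, []), ([3], 12, []), ([4], 12, []), ([5], 12, []), ([6], 12, []), ([4], 2, []), ([4], 15, []), ([5], 15, []), ([6], 15, []), ([5], 2, []), ([5], 19, []), ([6], 19, []), ([6], 2, []), ([6], 24, []), ([3], 3, []), ([4], 3, []), ([4], 16, []), ([5], 16, []), ([6], 16, []), ([5], 3, []), ([5], 20, []), ([6], 20, []), ([6], 3, []), ([6], 25, []), ([4], 4, []), ([5], 4, []), ([5], 21, []), ([6], 21, []), ([6], 4, []), ([6], 26, []), ([5], 5, []), ([6], 5, []), ([6], 27, []), ([6], 6, [])],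
    fus := [⟨[[3, 6], [1], [4], [6]], [[2], [0, 2, 5, 6], [0, 5], [5]], [([0, 0], [3]), ([1, 1], [3]), ([2, 2], [3]), ([3, 3], []), ([1, 0], [0, 1, 3]), ([2, 0], [0, 2, 3]), ([2, 1], [1, 2, 3]), ([3, 0], [0, 3]), ([3, 1], [1, 3]), ([3, 2], [2, 3])]⟩],
    eqs := [eq2_0, eq2_1, eq2_2, eq2_3, eq2_4, eq2_5, eq2_6, eq2_7, eq2_8, eq2_9, eq2_10, eq2_11, eq2_12, eq2_13, eq2_14, eq2_15, eq2_16, eq2_17, eq2_18, eq2_19, eq2_20, eq2_21, eq2_22, eq2_23, eq2_24, eq2_25, eq2_26, eq2_27, eq2_28, eq2_29, eq2_30, eq2_31, eq2_32, eq2_33, eq2_34, eq2_35, eq2_36, eq2_37, eq2_38, eq2_39, eq2_40, eq2_41, eq2_42, eq2_43, eq2_44, eq2_45, eq2_46, eq2_47, eq2_48, eq2_49, eq2_50, eq2_51, eq2_52, eq2_53, eq2_54, eq2_55, eq2_56, eq2_57, eq2_58, eq2_59, eq2_60, eq2_61, eq2_62, eq2_63, eq2_64, eq2_65, eq2_66, eq2_67, eq2_68, eq2_69, eq2_70, eq2_71, eq2_72, eq2_73, eq2_74, eq2_75, eq2_76, eq2_77, eq2_78, eq2_79,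 eq2_80, eq2_81, eq2_82, eq2_83, eq2_84, eq2_85, eq2_86, eq2_87, eq2_88, eq2_89, eq2_90, eq2_91, eq2_92, eq2_93],
    lam := [[], [], [], [(-1, 7)], [(-1, 9)], [(-1, 8)], [(-1, 11)]],
    gen := [(1, 12), (-1, 7), (-1, 8), (-1, 11), (1, 7)], b := 2, m := 3,
    genC := [(27, 0), (6, 3), (27, 4), (9, 5), (-15, 6), (-27, 7), (-15, 8), (-12, 19), (-9, 20), (18, 28), (-3, 31), (-3, 32), (-9, 45), (33, 49), (-12, 87), (-6, 88), (-18, 89)],
    targets := [tgt2_0, tgt2_1, tgt2_2, tgt2_3, tgt2_4, tgt2_5, tgt2_6, tgt2_7, tgt2_8, tgt2_9, tgt2_10, tgt2_11, tgt2_12, tgt2_13, tgt2_14, tgt2_15, tgt2_16, tgt2_17, tgt2_18, tgt2_19, tgt2_20, tgt2_21, tgt2_22, tgt2_23, tgt2_24] }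

end CfsgLib.Schur.Sporadic.JTwo
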